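import Groth.Agent.FEtKunnethLib.Serre
import Groth.Prelude.Def_PiSp

/-! # Orbits on fibres, clopen subsets of covers and topological generation -/

set_option autoImplicit false
set_option linter.style.haveILetI false
set_option backward.isDefEq.respectTransparency false
set_option backward.isDefEq.respectTransparency.types false
set_option maxHeartbeats 1000000

universe u

open CategoryTheory CategoryTheory.Limits AlgebraicGeometry WeightLib FEtKunneth

noncomputable section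

namespace PiGen

variable {Ω Ω' : Type u} [Field Ω] [Field Ω'] {X Y : Scheme.{u}}

/-- The elements of the fundamental group agreeing with a given one on a fibre form an open set. -/
theorem isOpen_agree {ξ : Spec (CommRingCat.of Ω) ⟶ X} (σ : FEt.piOne X ξ) (V : FEt.Cat X) :
    IsOpen {τ : FEt.piOne X ξ | ∀ s : FEt.fiberObj ξ V, act τ s = act σ s} := by
  letI : ∀ Z : FEt.Cat X, TopologicalSpace (FEt.fiberObj ξ Z → FEt.fiberObj ξ Z) := fun _ => ⊥
  haveI : DiscreteTopology (FEt.fiberObj ξ V → FEt.fiberObj ξ V) := ⟨rfl⟩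
  have h1 : Continuous fun (τ : FEt.piOne X ξ) (Z : FEt.Cat X) (s : FEt.fiberObj ξ Z) => act τ s :=
    continuous_induced_dom
  have hc : Continuous fun (τ : FEt.piOne X ξ) (s : FEt.fiberObj ξ V) => act τ s := (continuous_apply V).comp h1
  convert (isOpen_discrete ({fun s : FEt.fiberObj ξ V => act σ s} : Set _)).preimage hc using 1
  ext τ
  simp [funext_iff]

/-- The stabiliser of a set of points of a fibre. -/
def stab {ξ : Spec (CommRingCat.of Ω) ⟶ X} {V : FEt.Cat X} (M : Set (FEt.fiberObj ξ V)) :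
    Subgroup (FEt.piOne X ξ) where
  carrier := {σ | ∀ s, act σ s ∈ M ↔ s ∈ M}
  one_mem' := fun _ => Iff.rfl
  mul_mem' := fun {a b} ha hb s => (ha (act b s)).trans (hb s)
  inv_mem' := fun {a} ha s => by
    have h := ha (act a⁻¹ s)
    rw [← act_mul, mul_inv_cancel, act_one] at h
    exact h.symm

theorem mem_stab {ξ : Spec (CommRingCat.of Ω) ⟶ X} {V : FEt.Cat X} {M : Set (FEt.fiberObj ξ V)}
    {σ : FEt.piOne X ξ} : σ ∈ stab M ↔ ∀ s, act σ s ∈ M ↔ s ∈ M :=
  Iff.rfl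

/-- A set stable under topological generators is stable under the whole fundamental group. -/
theorem mem_stab_of_topGenerates {ξ : Spec (CommRingCat.of Ω) ⟶ X} {F : Set (FEt.piOne X ξ)}
    (hF : PiSp.TopGenerates F) {V : FEt.Cat X} (M : Set (FEt.fiberObj ξ V)) (h : F ⊆ stab M)
    (σ : FEt.piOne X ξ) : σ ∈ stab M := by
  obtain ⟨τ, hτ, hτσ⟩ := hF.inter_open_nonempty _ (isOpen_agree σ V) ⟨σ, fun _ => rfl⟩
  have h' : τ ∈ stab M := (Subgroup.closure_le _).2 h hτσ
  exact fun s => by rw [← hτ s]; exact h' s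

/-- A subgroup with the same orbits as the fundamental group is dense. -/
theorem dense_of_orbits {ξ : Spec (CommRingCat.of Ω) ⟶ X} (H : Subgroup (FEt.piOne X ξ))
    (h : ∀ (V : FEt.Cat X) (s : FEt.fiberObj ξ V) (σ : FEt.piOne X ξ), ∃ τ ∈ H, act τ s = act σ s) :
    Dense (H : Set (FEt.piOne X ξ)) := by
  classical
  letI : ∀ Z : FEt.Cat X, TopologicalSpace (FEt.fiberObj ξ Z → FEt.fiberObj ξ Z) := fun _ => ⊥
  rw [dense_iff_inter_open]
  rintro U ⟨W, hW, rfl⟩ ⟨σ, hσ⟩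
  obtain ⟨I, t, ht, hsub⟩ :=
    (isOpen_pi_iff (A := fun Z : FEt.Cat X => FEt.fiberObj ξ Z → FEt.fiberObj ξ Z)).1 hW _ hσ
  haveI := FEtColim.hasFiniteLimits X
  haveI := FEtColim.preservesFiniteLimits_fiber ξ
  let J := Σ Z : ↥I, FEt.fiberObj ξ Z.1
  haveI : Finite J := by
    haveI : ∀ Z : ↥I, Finite (FEt.fiberObj ξ Z.1) := fun Z => FEtColim.finite_fiberObj ξ Z.1
    infer_instance
  let f : J → FEt.Cat X := fun j => j.1.1
  let G := FEt.fiber ξ
  let hL := isLimitFanMkObjOfIsLimit G f _ (productIsProduct f)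
  let w : FEt.fiberObj ξ (∏ᶜ f) :=
    (Fan.IsLimit.lift hL (fun j => TypeCat.ofHom (fun _ : PUnit.{u + 1} => (j.2 : G.obj (f j))))) PUnit.unit
  have hw : ∀ j : J, G.map (Pi.π f j) w = j.2 := fun j =>
    ConcreteCategory.congr_hom (Fan.IsLimit.fac hL (fun j => TypeCat.ofHom (fun _ : PUnit.{u + 1} =>
      (j.2 : G.obj (f j)))) j) PUnit.unit
  obtain ⟨τ, hτH, hτ⟩ := h _ w σ
  refine ⟨τ, hsub fun Z hZ => ?_, hτH⟩
  have e : (fun s : FEt.fiberObj ξ Z => act τ s) = fun s => act σ s := funext fun s => by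
    have hs : G.map (Pi.π f ⟨⟨Z, hZ⟩, s⟩) w = s := hw ⟨⟨Z, hZ⟩, s⟩
    refine (congrArg (act τ) hs.symm).trans (Eq.trans ?_ (congrArg (act σ) hs))
    rw [act_map, act_map, hτ]
  show (fun s : FEt.fiberObj ξ Z => act τ s) ∈ t Z
  rw [e]
  exact (ht Z hZ).2

variable [IsAlgClosed Ω]

theorem etale_left {V V' : FEt.Cat X} (c : V ⟶ V') : Etale c.left := by
  haveI : Etale V'.hom := V'.prop.2
  haveI : Etale (c.left ≫ V'.hom) := by rw [MorphismProperty.Over.w c]; exact V.prop.2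
  exact Etale.of_comp c.left V'.hom

theorem isFinite_left {V V' : FEt.Cat X} (c : V ⟶ V') : IsFinite c.left := by
  haveI : IsFinite V'.hom := V'.prop.1
  haveI : IsFinite (c.left ≫ V'.hom) := by rw [MorphismProperty.Over.w c]; exact V.prop.1
  exact IsFinite.of_comp c.left V'.hom

/-- A point of the fibre in the image of a morphism of covers lifts. -/
theorem exists_lift_fiber {ξ : Spec (CommRingCat.of Ω) ⟶ X} {V V' : FEt.Cat X} (c : V ⟶ V')
    (t : FEt.fiberObj ξ V') (h : t.1 (IsLocalRing.closedPoint Ω) ∈ Set.range c.left) :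
    ∃ s, (FEt.fiber ξ).map c s = t := by
  haveI := etale_left c
  haveI : LocallyQuasiFinite c.left := locallyQuasiFinite_of_etale _
  obtain ⟨x, hx⟩ := h
  obtain ⟨⟨p, hp⟩, -⟩ := exists_gpt c.left x t.1 hx
  refine ⟨⟨p, ?_⟩, Subtype.ext hp⟩
  rw [← MorphismProperty.Over.w c]
  exact (Category.assoc _ _ _).symm.trans ((congrArg (· ≫ V'.hom) hp).trans t.2)

/-- A stable subset of a fibre comes from a clopen subset. -/
theorem exists_clopen_of_stable [ConnectedSpace X] (ξ : Spec (CommRingCat.of Ω) ⟶ X) (V : FEt.Cat X)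
    (M : Set (FEt.fiberObj ξ V)) (hM : ∀ σ : FEt.piOne X ξ, σ ∈ stab M) :
    ∃ N : Set V.left, IsClopen N ∧ ∀ t : FEt.fiberObj ξ V, t ∈ M ↔ t.1 (IsLocalRing.closedPoint Ω) ∈ N := by
  letI := FEtColim.preGaloisCategory X
  haveI := (FEtColim.fiberFunctor ξ).some
  haveI : GaloisCategory (FEt.Cat X) := { hasFiberFunctor := ⟨_, FEtColim.fiberFunctor ξ⟩ }
  choose C i c hc hC hi using fun s => PreGaloisCategory.fiber_in_connected_component (FEtColim.finFiber ξ) V s
  haveI := FEtColim.finite_fiberObj ξ V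
  refine ⟨⋃ s ∈ M, Set.range (i s).left, ⟨M.toFinite.isClosed_biUnion fun s _ => ?_, isOpen_biUnion fun s _ => ?_⟩,
    fun t => ⟨fun ht => ?_, fun ht => ?_⟩⟩
  · haveI := isFinite_left (i s)
    exact (i s).left.isClosedMap.isClosed_range
  · haveI := etale_left (i s)
    exact (i s).left.isOpenMap.isOpen_range
  · refine Set.mem_biUnion ht ⟨(c t).1 (IsLocalRing.closedPoint Ω), ?_⟩
    have e : (FEt.fiber ξ).map (i t) (c t) = t := hc t
    conv_rhs => rw [← e]
    rfl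
  · obtain ⟨s, hs, hts⟩ := Set.mem_iUnion₂.1 ht
    obtain ⟨d, hd⟩ := exists_lift_fiber (i s) t hts
    haveI := hC s
    obtain ⟨σ, hσ⟩ := MulAction.exists_smul_eq (Aut (FEtColim.finFiber ξ)) (c s) d
    let σ' : FEt.piOne X ξ := (FEtColim.finFiberCompIncl ξ).conjAut (Functor.isoWhiskerRight σ FintypeCat.incl)
    have h' : act σ' (c s) = d := hσ
    rw [← hd, ← h', ← act_map, show (FEt.fiber ξ).map (i s) (c s) = s from hc s]
    exact (hM σ' s).2 hs

/-- Isomorphisms of fibre functors respect clopen subsets of covers. -/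
theorem mem_clopen_iff [IsAlgClosed Ω'] {ξ : Spec (CommRingCat.of Ω) ⟶ X} {ξ' : Spec (CommRingCat.of Ω') ⟶ X}
    (θ : FEt.fiber ξ ≅ FEt.fiber ξ') {V : FEt.Cat X} {N : Set V.left} (hN : IsClopen N) (s : FEt.fiberObj ξ V) :
    (θ.hom.app V s).1 (IsLocalRing.closedPoint Ω') ∈ N ↔ s.1 (IsLocalRing.closedPoint Ω) ∈ N := by
  let O : V.left.Opens := ⟨N, hN.2⟩
  haveI : IsClosedImmersion O.ι := IsClosedImmersion.of_isPreimmersion O.ι (by
    rw [Scheme.Opens.range_ι]; exact hN.1)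
  haveI : IsFinite V.hom := V.prop.1
  haveI : Etale V.hom := V.prop.2
  let V₁ : FEt.Cat X := MorphismProperty.Over.mk ⊤ (O.ι ≫ V.hom) ⟨inferInstance, inferInstance⟩
  let c : V₁ ⟶ V := MorphismProperty.Over.homMk O.ι rfl
  have hr : Set.range c.left = N := Scheme.Opens.range_ι O
  constructor <;> intro h <;> rw [← hr] at h ⊢
  · obtain ⟨a, ha⟩ := exists_lift_fiber c _ h
    have e : s = (FEt.fiber ξ).map c (θ.inv.app V₁ a) := by
      rw [← NatTrans.naturality_apply θ.inv c a, ha]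
      exact (Iso.hom_inv_id_app_apply θ V s).symm
    rw [e]
    exact ⟨_, (Scheme.Hom.comp_apply _ _ _).symm⟩
  · obtain ⟨a, ha⟩ := exists_lift_fiber c _ h
    rw [← ha, NatTrans.naturality_apply θ.hom c a]
    exact ⟨_, (Scheme.Hom.comp_apply _ _ _).symm⟩

/-- Clopen subsets of a cover of a connected scheme agreeing on one fibre are equal. -/
theorem clopen_eq_of_fiber [ConnectedSpace X] (ξ : Spec (CommRingCat.of Ω) ⟶ X) {V : FEt.Cat X} {A B : Set V.left}
    (hA : IsClopen A) (hB : IsClopen B)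
    (h : ∀ s : FEt.fiberObj ξ V, s.1 (IsLocalRing.closedPoint Ω) ∈ A ↔ s.1 (IsLocalRing.closedPoint Ω) ∈ B) :
    A = B := by
  haveI : IsFinite V.hom := V.prop.1
  haveI : Etale V.hom := V.prop.2
  haveI : LocallyQuasiFinite V.hom := locallyQuasiFinite_of_etale _
  let E : Set V.left := (A \ B) ∪ (B \ A)
  have hE : IsClopen E := (hA.diff hB).union (hB.diff hA)
  have hempty : V.hom '' E = ∅ := by
    refine ((isClopen_iff (α := X) (s := V.hom '' E)).mp ⟨V.hom.isClosedMap _ hE.1, V.hom.isOpenMap _ hE.2⟩).resolve_right fun hu => ?_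
    obtain ⟨z, hz, hzξ⟩ : ξ (IsLocalRing.closedPoint Ω) ∈ V.hom '' E := by rw [hu]; trivial
    obtain ⟨⟨p, hp⟩, hpz⟩ := exists_gpt V.hom z ξ hzξ
    have hpz' : p (IsLocalRing.closedPoint Ω) = z := hpz
    have := h ⟨p, hp⟩
    change p _ ∈ A ↔ p _ ∈ B at this
    rw [hpz'] at this
    rcases hz with ⟨h1, h2⟩ | ⟨h1, h2⟩
    · exact h2 (this.1 h1)
    · exact h2 (this.2 h1)
  ext z
  by_contra hne
  exact Set.eq_empty_iff_forall_notMem.1 hempty (V.hom z) ⟨z, (Classical.em (z ∈ A)).elim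
    (fun ha => Or.inl ⟨ha, fun hb => hne ⟨fun _ => hb, fun _ => ha⟩⟩)
    (fun ha => Or.inr ⟨Classical.byContradiction fun hb => hne ⟨fun a => absurd a ha, fun b => absurd b hb⟩, ha⟩), rfl⟩

variable {Ω₁ Ω₂ : Type u} [Field Ω₁] [Field Ω₂]

/-- The push-forward of a path. -/
def pushIso (f : X ⟶ Y) {ξ₁ : Spec (CommRingCat.of Ω₁) ⟶ X} {ξ₂ : Spec (CommRingCat.of Ω₂) ⟶ X}
    (α : FEt.fiber ξ₁ ≅ FEt.fiber ξ₂) : FEt.fiber (ξ₁ ≫ f) ≅ FEt.fiber (ξ₂ ≫ f) :=
  (fiberPull f ξ₁ rfl).symm ≪≫ Functor.isoWhiskerLeft (FEt.restrict f) α ≪≫ fiberPull f ξ₂ rfl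

theorem pushIso_app (f : X ⟶ Y) {ξ₁ : Spec (CommRingCat.of Ω₁) ⟶ X} {ξ₂ : Spec (CommRingCat.of Ω₂) ⟶ X}
    (α : FEt.fiber ξ₁ ≅ FEt.fiber ξ₂) (V : FEt.Cat Y) (s : FEt.fiberObj (ξ₁ ≫ f) V) :
    (pushIso f α).hom.app V s = (fiberPull f ξ₂ rfl).hom.app V
      (α.hom.app ((FEt.restrict f).obj V) ((fiberPull f ξ₁ rfl).inv.app V s)) := rfl

end PiGen

end
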