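import Groth.Agent.PiGenLib.Basic
import Groth.Agent.ClopenFFLib.Topo
import Groth.Agent.S0296

/-! # Topological generators of the fundamental group through a proper surjective morphism -/

set_option autoImplicit false
set_option linter.style.haveILetI false
set_option backward.isDefEq.respectTransparency false
set_option backward.isDefEq.respectTransparency.types false
set_option maxHeartbeats 1000000

universe u

open CategoryTheory hiding ConnectedComponents IsConnected
open CategoryTheory.Limits AlgebraicGeometry WeightLib FEtKunneth TopologicalSpace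

noncomputable section

namespace PiGen

section

variable (P : Scheme.{u}) [IsNoetherian P]

/-- A connected component as an open subscheme. -/
def comp (c : ConnectedComponents P) : P.Opens :=
  ⟨ConnectedComponents.mk ⁻¹' {c}, by
    haveI : NoetherianSpace P := inferInstance
    haveI := ClopenFFLib.finite_connectedComponents_of_noetherian (Y := P)
    haveI : T1Space (ConnectedComponents P) := ⟨fun c => by
      obtain ⟨y, rfl⟩ := ConnectedComponents.surjective_coe c
      rw [← ConnectedComponents.isQuotientMap_coe.isClosed_preimage, connectedComponents_preimage_singleton]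
      exact isClosed_connectedComponent⟩
    haveI : DiscreteTopology (ConnectedComponents P) := inferInstance
    exact (isOpen_discrete {c}).preimage ConnectedComponents.continuous_coe⟩

theorem mem_comp {c : ConnectedComponents P} {x : P} : x ∈ comp P c ↔ ConnectedComponents.mk x = c := Iff.rfl

theorem isClosed_comp (c : ConnectedComponents P) : IsClosed (comp P c : Set P) := by
  obtain ⟨y, rfl⟩ := ConnectedComponents.surjective_coe c
  show IsClosed (ConnectedComponents.mk ⁻¹' {(y : ConnectedComponents P)})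
  rw [connectedComponents_preimage_singleton]
  exact isClosed_connectedComponent

instance connectedSpace_comp (c : ConnectedComponents P) : ConnectedSpace (comp P c : Scheme.{u}) := by
  obtain ⟨y, rfl⟩ := ConnectedComponents.surjective_coe c
  have h : IsConnected (comp P (y : ConnectedComponents P) : Set P) := by
    show IsConnected (ConnectedComponents.mk ⁻¹' {(y : ConnectedComponents P)})
    rw [connectedComponents_preimage_singleton]
    exact isConnected_connectedComponent
  exact isConnected_iff_connectedSpace.mp h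

end

/-- A geometric point lifted to a fibre product. -/
abbrev liftPt {K : Type u} [Field K] {S T : Scheme.{u}} {V : FEt.Cat S} (f : T ⟶ S)
    {τ : Spec (CommRingCat.of K) ⟶ T} {ω : Spec (CommRingCat.of K) ⟶ S} (h : τ ≫ f = ω) (u : FEt.fiberObj ω V) :
    (pullback V.hom f : Scheme.{u}) :=
  pullback.lift u.1 τ (u.2.trans h.symm) (IsLocalRing.closedPoint K)

variable {S S' : Scheme.{u}} [IsNoetherian S] [ConnectedSpace S] (g : S' ⟶ S) [IsProper g] [IsNoetherian S']

/-- Topological generation through a proper surjective morphism. -/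
theorem exists_topGenerates [Surjective g]
    (hfg : ∀ (C : S'.Opens), IsClosed (C : Set S') → ConnectedSpace C →
      ∀ (Ω : Type u) [Field Ω] [IsAlgClosed Ω] (η : Spec (CommRingCat.of Ω) ⟶ (C : Scheme.{u})),
        ∃ F : Finset (FEt.piOne (C : Scheme.{u}) η), PiSp.TopGenerates (F : Set (FEt.piOne (C : Scheme.{u}) η)))
    {Ω : Type u} [Field Ω] [IsAlgClosed Ω] (ξ : Spec (CommRingCat.of Ω) ⟶ S) :
    ∃ F : Finset (FEt.piOne S ξ), PiSp.TopGenerates (F : Set (FEt.piOne S ξ)) := by
  classical
  let P := pullback g g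
  haveI : IsNoetherian P := LocallyOfFiniteType.isLocallyNoetherian (pullback.fst g g) |> fun h => by
    haveI := h
    haveI : CompactSpace P := QuasiCompact.compactSpace_of_compactSpace (pullback.fst g g)
    exact {}
  haveI := ClopenFFLib.finite_connectedComponents_of_noetherian (Y := S')
  haveI := ClopenFFLib.finite_connectedComponents_of_noetherian (Y := P)
  letI := Fintype.ofFinite (ConnectedComponents S')
  letI := Fintype.ofFinite (ConnectedComponents P)
  -- base points and paths
  choose K hKf hKa hη using fun c : ConnectedComponents S' =>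
    (⟨_, inferInstance, inferInstance, ⟨gpt (Classical.arbitrary (comp S' c : Scheme.{u}))⟩⟩ :
      ∃ (K : Type u) (_ : Field K) (_ : IsAlgClosed K), Nonempty (Spec (CommRingCat.of K) ⟶ (comp S' c : Scheme.{u})))
  let η := fun c => (hη c).some
  have hθ := fun c => Groth.Agent.S0296.result ξ (η c ≫ (comp S' c).ι ≫ g)
  let θ := fun c => (hθ c).some
  choose F hF using fun c => hfg (comp S' c) (isClosed_comp S' c) (connectedSpace_comp S' c) (K c) (η c)
  choose L hLf hLa hδ₀ using fun D : ConnectedComponents P =>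
    (⟨_, inferInstance, inferInstance, ⟨gpt (Classical.arbitrary (comp P D : Scheme.{u}))⟩⟩ :
      ∃ (L : Type u) (_ : Field L) (_ : IsAlgClosed L), Nonempty (Spec (CommRingCat.of L) ⟶ (comp P D : Scheme.{u})))
  let δ := fun D => (hδ₀ D).some
  -- transport of a point of the fibre to a geometric point of the source
  have hpath : ∀ {M : Type u} [Field M] [IsAlgClosed M] (τ : Spec (CommRingCat.of M) ⟶ S'),
      ∃ (c : ConnectedComponents S') (d : Spec (CommRingCat.of M) ⟶ (comp S' c : Scheme.{u}))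
        (_ : FEt.fiber (η c) ≅ FEt.fiber d), d ≫ (comp S' c).ι = τ := fun {M} _ _ τ => by
    let c : ConnectedComponents S' := ConnectedComponents.mk (τ (IsLocalRing.closedPoint M))
    have hr : Set.range τ ⊆ Set.range (comp S' c).ι := by
      rw [Scheme.Opens.range_ι]
      exact FEtSplit.range_le τ rfl
    obtain ⟨α⟩ := Groth.Agent.S0296.result (η c) (IsOpenImmersion.lift (comp S' c).ι τ hr)
    exact ⟨c, _, α, IsOpenImmersion.lift_fac _ _ _⟩
  choose a d₁ α₁ hd₁ using fun D => hpath (δ D ≫ (comp P D).ι ≫ pullback.fst g g)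
  choose b d₂ α₂ hd₂ using fun D => hpath (δ D ≫ (comp P D).ι ≫ pullback.snd g g)
  have hδ : ∀ D, d₁ D ≫ (comp S' (a D)).ι ≫ g = d₂ D ≫ (comp S' (b D)).ι ≫ g := fun D => by
    rw [reassoc_of% (hd₁ D), reassoc_of% (hd₂ D), pullback.condition]
  let Φ : ∀ c, FEt.piOne (comp S' c : Scheme.{u}) (η c) → FEt.piOne S ξ := fun c σ =>
    θ c ≪≫ pushIso ((comp S' c).ι ≫ g) σ ≪≫ (θ c).symm
  let G : ConnectedComponents P → FEt.piOne S ξ := fun D =>
    (θ (a D) ≪≫ pushIso ((comp S' (a D)).ι ≫ g) (α₁ D)) ≪≫ eqToIso (congrArg FEt.fiber (hδ D)) ≪≫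
      (θ (b D) ≪≫ pushIso ((comp S' (b D)).ι ≫ g) (α₂ D)).symm
  let Gen : Finset (FEt.piOne S ξ) :=
    (Finset.univ.biUnion fun c => (F c).image (Φ c)) ∪ Finset.univ.image G
  refine ⟨Gen, dense_of_orbits _ fun V s₀ σ₀ => ?_⟩
  let H : Subgroup (FEt.piOne S ξ) := Subgroup.closure (Gen : Set (FEt.piOne S ξ))
  let M : Set (FEt.fiberObj ξ V) := {t | ∃ τ ∈ H, act τ s₀ = t}
  suffices hM : σ₀ ∈ stab M by
    obtain ⟨τ, hτ, he⟩ := (hM s₀).2 ⟨1, one_mem H, rfl⟩
    exact ⟨τ, hτ, he⟩
  have hH : ∀ τ ∈ H, τ ∈ stab M := fun τ hτ t =>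
    ⟨fun ⟨h, hh, he⟩ => ⟨τ⁻¹ * h, mul_mem (inv_mem hτ) hh, by
      rw [act_mul, he, ← act_mul, inv_mul_cancel, act_one]⟩,
      fun ⟨h, hh, he⟩ => ⟨τ * h, mul_mem hτ hh, by rw [act_mul, he]⟩⟩
  -- clopen subsets over the components
  let f : ∀ c, (comp S' c : Scheme.{u}) ⟶ S := fun c => (comp S' c).ι ≫ g
  let Mc : ∀ c, Set (FEt.fiberObj (η c) ((FEt.restrict (f c)).obj V)) := fun c =>
    {e | (θ c).inv.app V ((fiberPull (f c) (η c) rfl).hom.app V e) ∈ M}
  have hMc : ∀ c σ, σ ∈ stab (Mc c) := fun c σ => by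
    refine mem_stab_of_topGenerates (hF c) (Mc c) (fun σ' hσ' e => ?_) σ
    have hΦ : Φ c σ' ∈ H := Subgroup.subset_closure (Finset.mem_coe.2 (Finset.mem_union_left _
      (Finset.mem_biUnion.2 ⟨c, Finset.mem_univ _, Finset.mem_image_of_mem _ hσ'⟩)))
    have h := hH _ hΦ ((θ c).inv.app V ((fiberPull (f c) (η c) rfl).hom.app V e))
    refine Iff.trans ?_ h
    show _ ↔ (θ c).inv.app V ((pushIso (f c) σ').hom.app V ((θ c).hom.app V
      ((θ c).inv.app V ((fiberPull (f c) (η c) rfl).hom.app V e)))) ∈ M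
    rw [Iso.inv_hom_id_app_apply, pushIso_app, Iso.hom_inv_id_app_apply]
    rfl
  choose Nc hNc hNcM using fun c => exists_clopen_of_stable (η c) _ (Mc c) (hMc c)
  let j : ∀ c, pullback V.hom (f c) ⟶ pullback V.hom g := fun c => pH V.hom g (comp S' c).ι rfl
  haveI : ∀ c, IsOpenImmersion (j c) := fun c =>
    MorphismProperty.of_isPullback (P := @IsOpenImmersion) (isPullback_pH V.hom g (comp S' c).ι rfl).flip inferInstance
  have hjr : ∀ c (x : (pullback V.hom (f c) : Scheme.{u})),
      ConnectedComponents.mk (pullback.snd V.hom g (j c x)) = c := fun c x => by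
    rw [← Scheme.Hom.comp_apply, pH_snd, Scheme.Hom.comp_apply]
    exact (pullback.snd V.hom (f c) x).2
  let N : Set (pullback V.hom g : Scheme.{u}) := ⋃ c, j c '' Nc c
  have hNmem : ∀ c x, j c x ∈ N ↔ x ∈ Nc c := fun c x => by
    refine ⟨fun h => ?_, fun h => Set.mem_iUnion.2 ⟨c, x, h, rfl⟩⟩
    obtain ⟨c', x', hx', e⟩ := Set.mem_iUnion.1 h
    obtain rfl : c' = c := by rw [← hjr c' x', e, hjr]
    rwa [← (j c').isOpenEmbedding.injective e]
  have hcov : ∀ w, ∃ c x, j c x = w := fun w => by
    let c : ConnectedComponents S' := ConnectedComponents.mk (pullback.snd V.hom g w)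
    obtain ⟨w', hw', -⟩ := Scheme.Pullback.exists_preimage_pullback (f := pullback.snd V.hom g)
      (g := (comp S' c).ι) w ⟨pullback.snd V.hom g w, rfl⟩ rfl
    refine ⟨c, (isPullback_pH V.hom g (comp S' c).ι (rfl : _ = f c)).isoPullback.inv w', ?_⟩
    rw [← Scheme.Hom.comp_apply, IsPullback.isoPullback_inv_fst, hw']
  have hN : IsClopen N := by
    refine ⟨⟨?_⟩, isOpen_iUnion fun c => (j c).isOpenMap _ (hNc c).2⟩
    rw [show Nᶜ = ⋃ c, j c '' (Nc c)ᶜ from Set.ext fun w => by
      obtain ⟨c, x, rfl⟩ := hcov w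
      simp only [Set.mem_compl_iff, hNmem, Set.mem_iUnion, Set.mem_image]
      refine ⟨fun h => ⟨c, x, h, rfl⟩, fun ⟨c', x', hx', e⟩ => ?_⟩
      obtain rfl : c' = c := by rw [← hjr c' x', e, hjr]
      rwa [← (j c').isOpenEmbedding.injective e]]
    exact isOpen_iUnion fun c => (j c).isOpenMap _ (hNc c).compl.2
  -- the fibres of this subset
  have K1 : ∀ {L' : Type u} [Field L'] [IsAlgClosed L'] (c : ConnectedComponents S')
      (d : Spec (CommRingCat.of L') ⟶ (comp S' c : Scheme.{u})) (α : FEt.fiber (η c) ≅ FEt.fiber d)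
      (s : FEt.fiberObj ξ V),
      s ∈ M ↔ liftPt (V := V) g (Category.assoc d (comp S' c).ι g)
        ((θ c ≪≫ pushIso (f c) α).hom.app V s) ∈ N := fun {L'} _ _ c d α s => by
    let e : FEt.fiberObj (η c) ((FEt.restrict (f c)).obj V) :=
      (fiberPull (f c) (η c) rfl).inv.app V ((θ c).hom.app V s)
    let e' : FEt.fiberObj d ((FEt.restrict (f c)).obj V) := α.hom.app _ e
    have hp : liftPt (V := V) g (Category.assoc d (comp S' c).ι g)
        ((θ c ≪≫ pushIso (f c) α).hom.app V s) = j c (e'.1 (IsLocalRing.closedPoint L')) := by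
      refine Eq.trans ?_ (Scheme.Hom.comp_apply e'.1 (j c) _)
      refine congrArg (fun p : Spec (CommRingCat.of L') ⟶ pullback V.hom g => p (IsLocalRing.closedPoint L'))
        (pullback.hom_ext ?_ ?_)
      · rw [pullback.lift_fst, Category.assoc, pH_fst]
        rfl
      · rw [pullback.lift_snd, Category.assoc, pH_snd]
        exact ((Category.assoc _ _ _).symm.trans (congrArg (· ≫ (comp S' c).ι) e'.2)).symm
    rw [hp, hNmem, mem_clopen_iff α (hNc c) e, ← hNcM c e]
    show _ ↔ (θ c).inv.app V ((fiberPull (f c) (η c) rfl).hom.app V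
      ((fiberPull (f c) (η c) rfl).inv.app V ((θ c).hom.app V s))) ∈ M
    rw [Iso.inv_hom_id_app_apply, Iso.hom_inv_id_app_apply]
  -- the two pullbacks to the self product agree
  let r : P ⟶ S := pullback.fst g g ≫ g
  let p₁ : pullback V.hom r ⟶ pullback V.hom g := pH V.hom g (pullback.fst g g) rfl
  let p₂ : pullback V.hom r ⟶ pullback V.hom g := pH V.hom g (pullback.snd g g) pullback.condition.symm
  have hA : p₁ ⁻¹' N = p₂ ⁻¹' N := by
    ext q
    let D : ConnectedComponents P := ConnectedComponents.mk (pullback.snd V.hom r q)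
    let jD : pullback V.hom ((comp P D).ι ≫ r) ⟶ pullback V.hom r := pH V.hom r (comp P D).ι rfl
    have key := clopen_eq_of_fiber (δ D) (V := (FEt.restrict ((comp P D).ι ≫ r)).obj V)
      (A := (jD ≫ p₁) ⁻¹' N) (B := (jD ≫ p₂) ⁻¹' N) (hN.preimage (jD ≫ p₁).continuous)
      (hN.preimage (jD ≫ p₂).continuous) fun e => by
      let t : FEt.fiberObj (d₁ D ≫ f (a D)) V :=
        ⟨e.1 ≫ pullback.fst _ _, by
          rw [Category.assoc, pullback.condition]
          exact (Category.assoc _ _ _).symm.trans ((congrArg (· ≫ (comp P D).ι ≫ r) e.2).trans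
            (by simp only [f, r, reassoc_of% (hd₁ D)]))⟩
      let t₂ : FEt.fiberObj (d₂ D ≫ f (b D)) V := (eqToIso (congrArg FEt.fiber (hδ D))).hom.app V t
      have ht₂ : t₂.1 = t.1 := by
        have : ∀ {ω : Spec (CommRingCat.of (L D)) ⟶ S} (h : d₁ D ≫ f (a D) = ω),
            ((eqToIso (congrArg FEt.fiber h)).hom.app V t).1 = t.1 := by rintro _ rfl; rfl
        exact this (hδ D)
      let s : FEt.fiberObj ξ V := (θ (a D) ≪≫ pushIso (f (a D)) (α₁ D)).inv.app V t
      let s₂ : FEt.fiberObj ξ V := (θ (b D) ≪≫ pushIso (f (b D)) (α₂ D)).inv.app V t₂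
      have hs₂ : act (G D) s = s₂ := by
        show (θ (b D) ≪≫ pushIso (f (b D)) (α₂ D)).inv.app V ((eqToIso (congrArg FEt.fiber (hδ D))).hom.app V
          ((θ (a D) ≪≫ pushIso (f (a D)) (α₁ D)).hom.app V
            ((θ (a D) ≪≫ pushIso (f (a D)) (α₁ D)).inv.app V t))) = s₂
        rw [Iso.inv_hom_id_app_apply]
      have h1 : (jD ≫ p₁) (e.1 (IsLocalRing.closedPoint _)) ∈ N ↔ s ∈ M := by
        rw [K1 (a D) (d₁ D) (α₁ D) s, show (θ (a D) ≪≫ pushIso (f (a D)) (α₁ D)).hom.app V s = t from
          Iso.inv_hom_id_app_apply _ _ _]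
        refine Iff.of_eq ((congrArg (· ∈ N) (Scheme.Hom.comp_apply e.1 (jD ≫ p₁) _).symm).trans
          (congrArg (fun p : Spec (CommRingCat.of (L D)) ⟶ pullback V.hom g =>
          p (IsLocalRing.closedPoint (L D)) ∈ N) (pullback.hom_ext ?_ ?_)))
        · simp [jD, p₁, t]
        · simp only [Category.assoc, jD, p₁, pH_snd, pH_snd_assoc, pullback.lift_snd]
          rw [hd₁ D]
          exact (Category.assoc _ _ _).symm.trans (congrArg (· ≫ (comp P D).ι ≫ pullback.fst g g) e.2)
      have h2 : (jD ≫ p₂) (e.1 (IsLocalRing.closedPoint _)) ∈ N ↔ s₂ ∈ M := by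
        rw [K1 (b D) (d₂ D) (α₂ D) s₂, show (θ (b D) ≪≫ pushIso (f (b D)) (α₂ D)).hom.app V s₂ = t₂ from
          Iso.inv_hom_id_app_apply _ _ _]
        refine Iff.of_eq ((congrArg (· ∈ N) (Scheme.Hom.comp_apply e.1 (jD ≫ p₂) _).symm).trans
          (congrArg (fun p : Spec (CommRingCat.of (L D)) ⟶ pullback V.hom g =>
          p (IsLocalRing.closedPoint (L D)) ∈ N) (pullback.hom_ext ?_ ?_)))
        · simp [jD, p₂, ht₂, t]
        · simp only [Category.assoc, jD, p₂, pH_snd, pH_snd_assoc, pullback.lift_snd]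
          rw [hd₂ D]
          exact (Category.assoc _ _ _).symm.trans (congrArg (· ≫ (comp P D).ι ≫ pullback.snd g g) e.2)
      refine h1.trans (Iff.trans ?_ h2.symm)
      rw [← hs₂]
      exact (hH _ (Subgroup.subset_closure (Finset.mem_coe.2 (Finset.mem_union_right _
        (Finset.mem_image_of_mem _ (Finset.mem_univ D))))) s).symm
    obtain ⟨q', hq', -⟩ := Scheme.Pullback.exists_preimage_pullback (f := pullback.snd V.hom r)
      (g := (comp P D).ι) q ⟨pullback.snd V.hom r q, rfl⟩ rfl
    have hq : jD ((isPullback_pH V.hom r (comp P D).ι rfl).isoPullback.inv q') = q := by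
      rw [← Scheme.Hom.comp_apply, IsPullback.isoPullback_inv_fst, hq']
    rw [← hq, Set.mem_preimage, Set.mem_preimage, ← Scheme.Hom.comp_apply, ← Scheme.Hom.comp_apply jD]
    exact Set.ext_iff.1 key _
  -- descend
  let π := pullback.fst V.hom g
  haveI : IsProper π := inferInstance
  haveI : Surjective π := inferInstance
  have hsat : π ⁻¹' (π '' N) = N := by
    refine Set.Subset.antisymm ?_ (Set.subset_preimage_image π N)
    rintro w ⟨w', hw', he⟩
    obtain ⟨q, hq₁, hq₂⟩ := Scheme.Pullback.exists_preimage_pullback (f := π) (g := π) w' w he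
    let ι' : pullback π π ⟶ pullback V.hom r := pullback.lift (pullback.fst π π ≫ π)
      (pullback.lift (pullback.fst π π ≫ pullback.snd V.hom g) (pullback.snd π π ≫ pullback.snd V.hom g) (by
        simp only [π, Category.assoc, ← pullback.condition]
        rw [pullback.condition_assoc]))
      (by simp [r, π, pullback.condition])
    have e₁ : ι' ≫ p₁ = pullback.fst π π := by apply pullback.hom_ext <;> simp [ι', p₁, π]
    have e₂ : ι' ≫ p₂ = pullback.snd π π := by
      apply pullback.hom_ext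
      · simp [ι', p₂, π, pullback.condition (f := π) (g := π)]
      · simp [ι', p₂, π]
    have h := Set.ext_iff.1 hA (ι' q)
    rw [Set.mem_preimage, Set.mem_preimage, ← Scheme.Hom.comp_apply, e₁, ← Scheme.Hom.comp_apply, e₂, hq₁, hq₂] at h
    exact h.1 hw'
  have hq : Topology.IsQuotientMap π := π.isClosedMap.isQuotientMap π.continuous π.surjective
  have hN' : IsClopen (π '' N) :=
    ⟨hq.isClosed_preimage.1 (by rw [hsat]; exact hN.1), hq.isOpen_preimage.1 (by rw [hsat]; exact hN.2)⟩
  obtain ⟨x₀⟩ : Nonempty S' := ⟨(g.surjective (Classical.arbitrary S)).choose⟩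
  let c₀ : ConnectedComponents S' := ConnectedComponents.mk x₀
  have hfinal : ∀ t, t ∈ M ↔ t.1 (IsLocalRing.closedPoint Ω) ∈ π '' N := fun t => by
    rw [K1 c₀ (η c₀) (Iso.refl _) t, ← mem_clopen_iff (θ c₀) hN' t]
    conv_lhs => rw [← hsat]
    rw [Set.mem_preimage, ← Scheme.Hom.comp_apply, pullback.lift_fst]
    refine Iff.of_eq (congrArg (· ∈ π '' N) ?_)
    show ((pushIso (f c₀) (Iso.refl _)).hom.app V ((θ c₀).hom.app V t)).1 _ = _
    rw [pushIso_app]
    show ((fiberPull (f c₀) (η c₀) rfl).hom.app V ((fiberPull (f c₀) (η c₀) rfl).inv.app V _)).1 _ = _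
    rw [Iso.inv_hom_id_app_apply]
  exact fun t => by rw [hfinal, hfinal]; exact mem_clopen_iff σ₀ hN' t

end PiGen

end
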